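import Mathlib.RingTheory.Etale.Locus
import Mathlib.RingTheory.Etale.Kaehler
import Mathlib.RingTheory.Smooth.Locus
import Mathlib.RingTheory.Smooth.StandardSmoothOfFree
import Mathlib.RingTheory.Unramified.Field
import Mathlib.RingTheory.Jacobson.Ring
import Mathlib.RingTheory.Kaehler.Polynomial
import Mathlib.RingTheory.Kaehler.JacobiZariski
import Mathlib.RingTheory.LocalRing.Module
import Mathlib.RingTheory.IntegralDomain
import Mathlib.RingTheory.OrzechProperty
import Mathlib.RingTheory.RingHom.Etale
import Mathlib.FieldTheory.Perfect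

set_option autoImplicit false
open TensorProduct KaehlerDifferential

universe u

namespace Groth.Agent.EtAlg.Chart.Basic

variable (k : Type u) [CommRing k]

/-- Algebras whose map `k[x] → L` sends the variables to a basis of differentials are formally étale,
provided `H₁` of `L/k` vanishes. -/
theorem formallyEtale_of_bijective {σ : Type} (L : Type u) [CommRing L] [Algebra k L]
    [Algebra (MvPolynomial σ k) L] [IsScalarTower k (MvPolynomial σ k) L]
    [Subsingleton (Algebra.H1Cotangent k L)]
    (hb : Function.Bijective (mapBaseChange k (MvPolynomial σ k) L)) :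
    Algebra.FormallyEtale (MvPolynomial σ k) L := by
  refine ⟨?_, ?_⟩
  · have hex := exact_mapBaseChange_map k (MvPolynomial σ k) L
    refine ⟨fun a b => ?_⟩
    have h : ∀ z : Ω[L⁄MvPolynomial σ k], z = 0 := by
      intro z
      obtain ⟨w, rfl⟩ := map_surjective k (MvPolynomial σ k) L z
      obtain ⟨v, rfl⟩ := hb.2 w
      exact hex.apply_apply_eq_zero v
    rw [h a, h b]
  · have h : ∀ z : Algebra.H1Cotangent (MvPolynomial σ k) L, z = 0 := by
      intro z
      have hz : Algebra.H1Cotangent.δ k (MvPolynomial σ k) L z = 0 :=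
        hb.1 (((Algebra.H1Cotangent.exact_δ_mapBaseChange k (MvPolynomial σ k) L).apply_apply_eq_zero
          z).trans (map_zero _).symm)
      obtain ⟨w, hw⟩ := (Algebra.H1Cotangent.exact_map_δ k (MvPolynomial σ k) L z).mp hz
      rw [← hw, Subsingleton.elim w 0, map_zero]
    exact ⟨fun a b => by rw [h a, h b]⟩

section spanning

variable {k}
variable {R : Type u} [CommRing R] [Algebra k R] (m : Ideal R) [m.IsPrime]

/-- residual spanning implies spanning at the localization -/
theorem span_D_localization [Algebra.EssFiniteType k R] {ι : Type*} (x : ι → R)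
    (hx : Submodule.span R (Set.range fun i => D k R (x i)) ⊔ m • (⊤ : Submodule R Ω[R⁄k]) = ⊤) :
    Submodule.span (Localization.AtPrime m)
      (Set.range fun i => D k (Localization.AtPrime m) (algebraMap R _ (x i))) = ⊤ := by
  have : Algebra.EssFiniteType R (Localization.AtPrime m) :=
    Algebra.EssFiniteType.of_isLocalization _ m.primeCompl
  have : Algebra.EssFiniteType k (Localization.AtPrime m) :=
    Algebra.EssFiniteType.comp k R _
  refine top_le_iff.mp (Submodule.le_of_le_smul_of_le_jacobson_bot Module.Finite.fg_top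
    (IsLocalRing.maximalIdeal_le_jacobson _) ?_)
  rw [← span_range_map_derivation_of_isLocalization k (S := R) (T := Localization.AtPrime m)
    m.primeCompl, Submodule.span_le]
  rintro _ ⟨r, rfl⟩
  have hr : D k R r ∈ Submodule.span R (Set.range fun i => D k R (x i)) ⊔
      m • (⊤ : Submodule R Ω[R⁄k]) := by rw [hx]; exact Submodule.mem_top
  obtain ⟨a, ha, b, hb, hab⟩ := Submodule.mem_sup.mp hr
  simp only [SetLike.mem_coe, Function.comp_apply]
  rw [← hab, map_add]
  refine Submodule.add_mem _ (Submodule.mem_sup_left ?_) (Submodule.mem_sup_right ?_)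
  · rw [← Submodule.restrictScalars_mem R]
    refine (Submodule.span_le.mpr ?_ : _ ≤ Submodule.comap (map k k R (Localization.AtPrime m))
      ((Submodule.span (Localization.AtPrime m) (Set.range fun i =>
        D k (Localization.AtPrime m) (algebraMap R _ (x i)))).restrictScalars R)) ha
    rintro _ ⟨i, rfl⟩
    show map k k R (Localization.AtPrime m) (D k R (x i)) ∈ Submodule.span (Localization.AtPrime m)
      (Set.range fun i => D k (Localization.AtPrime m) (algebraMap R _ (x i)))
    rw [map_D]
    exact Submodule.subset_span ⟨i, rfl⟩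
  · refine Submodule.smul_induction_on hb ?_ (fun y z hy hz => by rw [map_add]; exact add_mem hy hz)
    intro c hc n _
    rw [map_smul, ← algebraMap_smul (Localization.AtPrime m) c]
    refine Submodule.smul_mem_smul ?_ ?_
    · exact (IsLocalization.AtPrime.to_map_mem_maximal_iff _ m c).mpr hc
    · exact (span_range_map_derivation_of_isLocalization k (S := R) (T := Localization.AtPrime m)
        m.primeCompl).ge Submodule.mem_top

end spanning

/-- The main construction. -/
theorem isEtaleAt_of_residual_basis (R : Type u) [CommRing R] [Algebra k R]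
    [Algebra.EssFiniteType k R] (m : Ideal R) [m.IsMaximal] [Algebra.IsSmoothAt k m]
    {σ : Type} [Finite σ] [Algebra (MvPolynomial σ k) R] [IsScalarTower k (MvPolynomial σ k) R]
    (e : Module.Basis σ (R ⧸ m) ((R ⧸ m) ⊗[R] Ω[R⁄k]))
    (he : ∀ i, e i = 1 ⊗ₜ D k R (algebraMap (MvPolynomial σ k) R (MvPolynomial.X i))) :
    Algebra.IsEtaleAt (MvPolynomial σ k) m := by
  classical
  letI := Ideal.Quotient.field m
  let P := MvPolynomial σ k
  let L := Localization.AtPrime m
  let x : σ → R := fun i => algebraMap P R (MvPolynomial.X i)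
  have : Fintype σ := Fintype.ofFinite σ
  have : Algebra.EssFiniteType R L := Algebra.EssFiniteType.of_isLocalization _ m.primeCompl
  have : Algebra.EssFiniteType k L := Algebra.EssFiniteType.comp k R _
  have : Module.Free L Ω[L⁄k] := Module.free_of_flat_of_isLocalRing
  have hx : Submodule.span R (Set.range fun i => D k R (x i)) ⊔ m • (⊤ : Submodule R Ω[R⁄k]) = ⊤ := by
    rw [eq_top_iff]
    intro ω _
    obtain ⟨a, ha⟩ : ∃ a : σ → R, ∀ i, Ideal.Quotient.mk m (a i) =
        e.repr (1 ⊗ₜ ω) i := by
      choose a ha using fun i => Ideal.Quotient.mk_surjective (e.repr (1 ⊗ₜ ω) i)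
      exact ⟨a, ha⟩
    have h0 : (1 : R ⧸ m) ⊗ₜ[R] (ω - ∑ i, a i • D k R (x i)) = 0 := by
      rw [tmul_sub, tmul_sum, sub_eq_zero]
      conv_lhs => rw [← e.sum_repr (1 ⊗ₜ ω)]
      refine Finset.sum_congr rfl fun i _ => ?_
      rw [← ha i, he i, tmul_smul, ← Ideal.Quotient.algebraMap_eq, algebraMap_smul]
    have h1 : ω - ∑ i, a i • D k R (x i) ∈ m • (⊤ : Submodule R Ω[R⁄k]) := by
      have := congrArg (TensorProduct.quotTensorEquivQuotSMul Ω[R⁄k] m) h0
      rw [map_zero, ← map_one (Ideal.Quotient.mk m), TensorProduct.quotTensorEquivQuotSMul_mk_tmul,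
        one_smul] at this
      exact (Submodule.Quotient.mk_eq_zero _).mp this
    have h2 : ω = (∑ i, a i • D k R (x i)) + (ω - ∑ i, a i • D k R (x i)) := by abel
    rw [h2]
    exact Submodule.add_mem_sup (sum_mem fun i _ =>
      Submodule.smul_mem _ _ (Submodule.subset_span ⟨i, rfl⟩)) h1
  have hspan := span_D_localization (k := k) m x hx
  let v : σ → Ω[L⁄k] := fun i => D k L (algebraMap R L (x i))
  -- the rank of `Ω[L/k]`
  let φ : L →+* R ⧸ m := IsLocalization.lift (M := m.primeCompl) (g := Ideal.Quotient.mk m)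
    fun y => isUnit_iff_ne_zero.mpr fun h => y.2 (Ideal.Quotient.eq_zero_iff_mem.mp h)
  letI : Algebra L (R ⧸ m) := φ.toAlgebra
  have : IsScalarTower R L (R ⧸ m) :=
    IsScalarTower.of_algebraMap_eq fun r => (IsLocalization.lift_eq _ r).symm
  have hbc : IsBaseChange L (map k k R L) :=
    haveI := Algebra.FormallyEtale.of_isLocalization (Rₘ := L) m.primeCompl
    isBaseChange_of_formallyEtale k R L
  let E : (R ⧸ m) ⊗[L] Ω[L⁄k] ≃ₗ[R ⧸ m] (R ⧸ m) ⊗[R] Ω[R⁄k] :=
    (TensorProduct.AlgebraTensorModule.congr (LinearEquiv.refl (R ⧸ m) (R ⧸ m)) hbc.equiv.symm).trans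
      (TensorProduct.AlgebraTensorModule.cancelBaseChange R L (R ⧸ m) (R ⧸ m) Ω[R⁄k])
  have hrank : Module.finrank L Ω[L⁄k] = Fintype.card σ := by
    rw [← Module.finrank_baseChange (R := R ⧸ m) (S := L) (M' := Ω[L⁄k]), E.finrank_eq,
      Module.finrank_eq_card_basis e]
  let b : Module.Basis σ L Ω[L⁄k] := (Module.finBasisOfFinrankEq L Ω[L⁄k] hrank).reindex
    (Fintype.equivFin σ).symm
  have hv : Function.Bijective (b.constr L v) := by
    refine OrzechProperty.bijective_of_surjective_endomorphism _ ?_
    rw [← LinearMap.range_eq_top, b.constr_range]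
    exact hspan
  -- the comparison map
  have hmb : Function.Bijective (mapBaseChange k P L) := by
    let bP : Module.Basis σ L (L ⊗[P] Ω[P⁄k]) := (mvPolynomialBasis k σ).baseChange L
    have heq : mapBaseChange k P L = (b.constr L v).comp (bP.equiv b (Equiv.refl σ)).toLinearMap := by
      refine bP.ext fun i => ?_
      rw [LinearMap.comp_apply, LinearEquiv.coe_coe, Module.Basis.equiv_apply, Equiv.refl_apply,
        Module.Basis.constr_basis, Module.Basis.baseChange_apply, mvPolynomialBasis_apply]
      erw [mapBaseChange_tmul]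
      rw [one_smul, map_D]
      change D k L (algebraMap P L (MvPolynomial.X i)) = D k L (algebraMap R L (x i))
      rw [IsScalarTower.algebraMap_apply P R L]
    rw [heq]
    exact hv.comp (bP.equiv b (Equiv.refl σ)).bijective
  exact formallyEtale_of_bijective k L hmb

end Groth.Agent.EtAlg.Chart.Basic
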